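import Cfsg.Agent.FT.BG12C

/-! B & G, section 12: see the sub-stubs `BG12A`, `BG12B`, `BG12C`. -/
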