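import Cfsg.Agent.FT.BG14B

/-! B & G, section 14: see the sub-stubs `BG14A`, `BG14B`. -/
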