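import Cfsg.Agent.FT.Pf.BG9
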